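import Mathlib

/-!
# APAIR (S2276, `alternating_p_elements_free_pair`): shared definitions and package statements

For nonidentity `p`-elements `u, w` of `A_n` (`n ≥ 5`, `p ≥ 3`) there is `g ∈ A_n` such that
`u * (g w g⁻¹)` is not a `p`-element and `⟨u, g w g⁻¹⟩` is not solvable.

Every `Pkg*` below is a `Prop`; a package file proves `theorem pkg* : Pkg*` (possibly from other
packages as hypotheses).
-/

set_option autoImplicit false

namespace Cfsg.Agent.Lib.Helper75.APair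

open Equiv
open scoped commutatorElement

/-- `PP p a b`: `a * b` does not have `p`-power order and `⟨a, b⟩` is not solvable. -/
def PP {G : Type} [Group G] (p : ℕ) (a b : G) : Prop :=
  (¬ ∃ k : ℕ, orderOf (a * b) = p ^ k) ∧
    ¬ Group.IsSolvable (Subgroup.closure ({a, b} : Set G))

/-- `Good p a b`: there are conjugators `g₁, g₂` of different signs with `PP p a (gᵢ b gᵢ⁻¹)`. -/
def Good {Δ : Type} [Fintype Δ] [DecidableEq Δ] (p : ℕ) (a b : Perm Δ) : Prop :=
  ∃ g₁ g₂ : Perm Δ, Perm.sign g₁ ≠ Perm.sign g₂ ∧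
    PP p a (g₁ * b * g₁⁻¹) ∧ PP p a (g₂ * b * g₂⁻¹)

/-- a full cycle: a single orbit on the whole type. -/
def Full {Δ : Type} (a : Perm Δ) : Prop := ∀ x y : Δ, a.SameCycle x y

/-- `l` is a complete irredundant list of representatives of the cycles of `a`
(fixed points included). -/
def Reps {Δ : Type} (a : Perm Δ) (l : List Δ) : Prop :=
  l.Nodup ∧ (∀ s ∈ l, ∀ s' ∈ l, a.SameCycle s s' → s = s') ∧ (∀ x, ∃ s ∈ l, a.SameCycle s x)

/-! ## Basic packages -/

/-- [CONJ] `PP` is invariant under simultaneous conjugation. -/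
def PkgConj : Prop :=
  ∀ (G : Type) [Group G] (p : ℕ) (a b k : G), PP p a b → PP p (k * a * k⁻¹) (k * b * k⁻¹)

/-- [SYMM] `Good` is symmetric. -/
def PkgSymm : Prop :=
  ∀ (Δ : Type) [Fintype Δ] [DecidableEq Δ] (p : ℕ) (a b : Perm Δ), Good p b a → Good p a b

/-- [FC] two full cycles are conjugate. -/
def PkgFC : Prop :=
  ∀ (Δ : Type) [Fintype Δ] [DecidableEq Δ] (a b : Perm Δ), Full a → Full b →
    ∃ g : Perm Δ, g * b * g⁻¹ = a

/-- [ROT] `finRotate q` is a full cycle. -/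
def PkgRot : Prop := ∀ q : ℕ, Full (finRotate q)

/-- [EVEN] an element one of whose powers is an involution does not have odd prime power order. -/
def PkgEven : Prop :=
  ∀ (G : Type) [Group G] (p : ℕ), Odd p → ∀ (x : G) (m : ℕ), x ^ m ≠ 1 → (x ^ m) ^ 2 = 1 →
    ¬ ∃ k : ℕ, orderOf x = p ^ k

/-- [NSG] the Mathlib `fin_5_not_solvable` trick for a subgroup. -/
def PkgNSG : Prop :=
  ∀ (G : Type) [Group G] (H : Subgroup G) (x y z : G), x ∈ H → y ∈ H → z ∈ H → x ≠ 1 →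
    x = z * ⁅x, y * x * y⁻¹⁆ * z⁻¹ → ¬ Group.IsSolvable H

/-- [NS5] a subgroup containing two 3-cycles `(a b c)`, `(c d e)` sharing exactly one point is not
solvable. -/
def PkgNS5 : Prop :=
  ∀ (Ω : Type) [DecidableEq Ω] (H : Subgroup (Perm Ω)) (a b c d e : Ω), [a, b, c, d, e].Nodup →
    swap a b * swap b c ∈ H → swap c d * swap d e ∈ H → ¬ Group.IsSolvable H

/-- [ODDC] one good conjugate plus an odd permutation commuting with `a` gives `Good`. -/
def PkgOddComm : Prop :=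
  ∀ (Δ : Type) [Fintype Δ] [DecidableEq Δ] (p : ℕ) (a b g σ : Perm Δ),
    PP p a (g * b * g⁻¹) → Perm.sign σ = -1 → σ * a = a * σ → Good p a b

/-- [RL] restriction lemma: `Good` for the restrictions to invariant subsets (given by intertwining
embeddings of a common type) implies `Good`. -/
def PkgRL : Prop :=
  ∀ (Ω Δ : Type) [Fintype Ω] [DecidableEq Ω] [Fintype Δ] [DecidableEq Δ] (p : ℕ), p.Prime →
    ∀ (u w : Perm Ω) (a b : Perm Δ) (ιu ιw : Δ ↪ Ω),
    (∀ x, u (ιu x) = ιu (a x)) → (∀ x, w (ιw x) = ιw (b x)) → Good p a b → Good p u w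

/-! ## Threading -/

/-- [TLa] a list of pairwise non-`SameCycle` points extends to a complete list of representatives;
the periods of the representatives add up to the cardinality. -/
def PkgTLa : Prop :=
  ∀ (Δ : Type) [Fintype Δ] [DecidableEq Δ] (a : Perm Δ) (l₀ : List Δ), l₀.Nodup →
    (∀ s ∈ l₀, ∀ s' ∈ l₀, a.SameCycle s s' → s = s') →
    ∃ l₁ : List Δ, Reps a (l₀ ++ l₁) ∧
      Fintype.card Δ = ((l₀ ++ l₁).map (fun s => Function.minimalPeriod (a : Δ → Δ) s)).sum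

/-- [TLb] threading: if `l` is a complete list of representatives of the cycles of `a`, then
`l.formPerm⁻¹ * a` is a full cycle. -/
def PkgTLb : Prop :=
  ∀ (Δ : Type) [Fintype Δ] [DecidableEq Δ] (a : Perm Δ) (l : List Δ), Reps a l →
    Full (l.formPerm⁻¹ * a)

/-- [OC] a `p`-element (`p` odd) on `p^d` points which is not a full cycle commutes with an odd
permutation. -/
def PkgOC : Prop :=
  ∀ (Δ : Type) [Fintype Δ] [DecidableEq Δ] (p d : ℕ), p.Prime → 3 ≤ p →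
    Fintype.card Δ = p ^ d → ∀ a : Perm Δ, (∃ k : ℕ, orderOf a = p ^ k) → ¬ Full a →
      ∃ σ : Perm Δ, Perm.sign σ = -1 ∧ σ * a = a * σ

/-- [INV] an invariant subset of prescribed size `N` containing a point of maximal period, when all
periods are powers of `p` dividing `N`. -/
def PkgINV : Prop :=
  ∀ (Ω : Type) [Fintype Ω] [DecidableEq Ω] (p : ℕ), p.Prime → ∀ (u : Perm Ω),
    (∀ x, ∃ k : ℕ, Function.minimalPeriod (u : Ω → Ω) x = p ^ k) → ∀ (N : ℕ) (x₀ : Ω),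
    (∀ x, Function.minimalPeriod (u : Ω → Ω) x ≤ Function.minimalPeriod (u : Ω → Ω) x₀) →
    (∀ x, Function.minimalPeriod (u : Ω → Ω) x ∣ N) → 0 < N → N ≤ Fintype.card Ω →
    ∃ Z : Finset Ω, x₀ ∈ Z ∧ (∀ z ∈ Z, u z ∈ Z) ∧ Z.card = N

/-! ## Reduction glue -/

/-- [REDA] the restriction of `u` to an invariant finset of size `q`, as a permutation of `Fin q`. -/
def PkgRedA : Prop :=
  ∀ (Ω : Type) [Fintype Ω] [DecidableEq Ω] (u : Perm Ω) (Z : Finset Ω) (q : ℕ), Z.card = q →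
    (∀ z ∈ Z, u z ∈ Z) →
    ∃ (ι : Fin q ↪ Ω) (a : Perm (Fin q)), (∀ x, u (ι x) = ι (a x)) ∧ (∀ z ∈ Z, ∃ k, ι k = z)

/-- [REDB] an orbit of size `q` of `w` is a copy of `finRotate q`. -/
def PkgRedB : Prop :=
  ∀ (Ω : Type) [Fintype Ω] [DecidableEq Ω] (w : Perm Ω) (y₀ : Ω) (q : ℕ),
    Function.minimalPeriod (w : Ω → Ω) y₀ = q →
    ∃ ι : Fin q ↪ Ω, ∀ k, w (ι k) = ι (finRotate q k)

/-- [REDC] periods and exponents pass through an intertwining embedding. -/
def PkgRedC : Prop :=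
  ∀ (Ω Δ : Type) [Fintype Ω] [DecidableEq Ω] [Fintype Δ] [DecidableEq Δ] (u : Perm Ω)
    (a : Perm Δ) (ι : Δ ↪ Ω), (∀ x, u (ι x) = ι (a x)) →
    (∀ x, Function.minimalPeriod (a : Δ → Δ) x = Function.minimalPeriod (u : Ω → Ω) (ι x)) ∧
      (∀ m : ℕ, u ^ m = 1 → a ^ m = 1)

/-- [FIN] from `Good` for the underlying permutations to the statement in `A_n`. -/
def PkgFin : Prop :=
  ∀ (n p : ℕ) (u w : alternatingGroup (Fin n)),
    Good p (u : Perm (Fin n)) (w : Perm (Fin n)) →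
    ∃ g : alternatingGroup (Fin n), (¬ ∃ k : ℕ, orderOf (u * (g * w * g⁻¹)) = p ^ k) ∧
      ¬ Group.IsSolvable ↥(Subgroup.closure ({u, g * w * g⁻¹} : Set (alternatingGroup (Fin n))))

/-! ## Cores -/

/-- [EQ] two full cycles on `p^d ≥ 5` points. -/
def PkgEQ : Prop :=
  ∀ (Δ : Type) [Fintype Δ] [DecidableEq Δ] (p d : ℕ), p.Prime → 3 ≤ p →
    Fintype.card Δ = p ^ d → 5 ≤ Fintype.card Δ → ∀ a b : Perm Δ, Full a → Full b → Good p a b

/-- [C1] `a` a `p`-element with a cycle of length `≥ 5`, not a full cycle; `b` a full cycle. -/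
def PkgC1 : Prop :=
  ∀ (Δ : Type) [Fintype Δ] [DecidableEq Δ] (p d : ℕ), p.Prime → 3 ≤ p →
    Fintype.card Δ = p ^ d → ∀ a b : Perm Δ, (∃ k : ℕ, orderOf a = p ^ k) →
      (∃ x₀ : Δ, 5 ≤ Function.minimalPeriod (a : Δ → Δ) x₀) → ¬ Full a → Full b → Good p a b

/-- [C3] `p = 3`: `a` of order 3 on `3^d ≥ 9` points, `b` a full cycle. -/
def PkgC3 : Prop :=
  ∀ (Δ : Type) [Fintype Δ] [DecidableEq Δ] (d : ℕ), Fintype.card Δ = 3 ^ d →
    9 ≤ Fintype.card Δ → ∀ a b : Perm Δ, a ^ 3 = 1 → a ≠ 1 → Full b → Good 3 a b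

/-- [S3] `p = 3`: both of order 3, on at least 5 points. -/
def PkgS3 : Prop :=
  ∀ (Ω : Type) [Fintype Ω] [DecidableEq Ω], 5 ≤ Fintype.card Ω →
    ∀ u w : Perm Ω, u ^ 3 = 1 → w ^ 3 = 1 → u ≠ 1 → w ≠ 1 → Good 3 u w

end Cfsg.Agent.Lib.Helper75.APair
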