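import Cfsg.Agent.Lib.Helper75.APair.Defs

/-!
# APAIR (S2276): the three sub-cases of the core [C3]
-/

set_option autoImplicit false

namespace Cfsg.Agent.Lib.Helper75.APair

open Equiv

/-- [C3A] `a` is a single 3-cycle `(s₁, a s₁, a (a s₁))` on `3^d ≥ 9` points; `b` a full cycle. -/
def PkgC3A : Prop :=
  ∀ (Δ : Type) [Fintype Δ] [DecidableEq Δ] (d : ℕ), Fintype.card Δ = 3 ^ d →
    9 ≤ Fintype.card Δ → ∀ (a b : Perm Δ) (s₁ : Δ), a ^ 3 = 1 → a s₁ ≠ s₁ →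
      (∀ x, x ≠ s₁ → x ≠ a s₁ → x ≠ a (a s₁) → a x = x) → Full b → Good 3 a b

/-- [C3B] `a` of order 3 with two 3-cycles (through `s₁`, `s₂`) and at least five cycles in all
(fixed points included): `s₁, s₂, x, x', x''` lie in pairwise different cycles. -/
def PkgC3B : Prop :=
  ∀ (Δ : Type) [Fintype Δ] [DecidableEq Δ] (d : ℕ), Fintype.card Δ = 3 ^ d →
    ∀ (a b : Perm Δ) (s₁ s₂ x x' x'' : Δ), a ^ 3 = 1 → a s₁ ≠ s₁ → a s₂ ≠ s₂ →
      [s₁, s₂, x, x', x''].Nodup →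
      (∀ s ∈ [s₁, s₂, x, x', x''], ∀ s' ∈ [s₁, s₂, x, x', x''], a.SameCycle s s' → s = s') →
      Full b → Good 3 a b

/-- [C3C] `a` of order 3 without fixed points on 9 points; `b` a full cycle. -/
def PkgC3C : Prop :=
  ∀ (Δ : Type) [Fintype Δ] [DecidableEq Δ], Fintype.card Δ = 9 →
    ∀ (a b : Perm Δ), a ^ 3 = 1 → (∀ x, a x ≠ x) → Full b → Good 3 a b

end Cfsg.Agent.Lib.Helper75.APair
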