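import Cfsg.Agent.Lib.Helper75.APair.Defs2

/-!
# APAIR [C3]: glue of the three sub-cases
-/

set_option autoImplicit false

namespace Cfsg.Agent.Lib.Helper75.APair

open Equiv

theorem c3_period_dvd {Δ : Type} (a : Perm Δ) (ha3 : a ^ 3 = 1) (x : Δ) :
    Function.minimalPeriod (a : Δ → Δ) x ∣ 3 := by
  apply Function.IsPeriodicPt.minimalPeriod_dvd
  show (⇑a)^[3] x = x
  rw [Equiv.Perm.iterate_eq_pow, ha3]; rfl

theorem c3_period_cases {Δ : Type} (a : Perm Δ) (ha3 : a ^ 3 = 1) (x : Δ) :
    Function.minimalPeriod (a : Δ → Δ) x = 1 ∨ Function.minimalPeriod (a : Δ → Δ) x = 3 :=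
  (Nat.dvd_prime Nat.prime_three).mp (c3_period_dvd a ha3 x)

theorem c3_period_three {Δ : Type} (a : Perm Δ) (ha3 : a ^ 3 = 1) (x : Δ) (hx : a x ≠ x) :
    Function.minimalPeriod (a : Δ → Δ) x = 3 := by
  rcases c3_period_cases a ha3 x with h | h
  · exact absurd (Function.minimalPeriod_eq_one_iff_isFixedPt.mp h) hx
  · exact h

theorem c3_pow_cases {Δ : Type} (a : Perm Δ) (ha3 : a ^ 3 = 1) (s : Δ) (i : ℕ) :
    (a ^ i) s = s ∨ (a ^ i) s = a s ∨ (a ^ i) s = a (a s) := by
  have h : a ^ i = a ^ (i % 3) := by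
    conv_lhs => rw [← Nat.div_add_mod i 3]
    rw [pow_add, pow_mul, ha3, one_pow, one_mul]
  rw [h]
  have h3 : i % 3 < 3 := Nat.mod_lt _ (by norm_num)
  interval_cases (i % 3)
  · left; simp
  · right; left; simp
  · right; right; simp [pow_two]

theorem pkgC3 (hTLa : PkgTLa) (hA : PkgC3A) (hB : PkgC3B) (hC : PkgC3C) : PkgC3 := by
  intro Δ _ _ d hcard h9 a b ha3 ha1 hb
  obtain ⟨s₁, hs₁⟩ : ∃ s₁, a s₁ ≠ s₁ := by
    by_contra hc
    push Not at hc
    exact ha1 (Equiv.ext hc)
  by_cases hall : ∀ x, x ≠ s₁ → x ≠ a s₁ → x ≠ a (a s₁) → a x = x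
  · exact hA Δ d hcard h9 a b s₁ ha3 hs₁ hall hb
  · push Not at hall
    obtain ⟨s₂, h21, h22, h23, hs₂⟩ := hall
    have hns : ¬ a.SameCycle s₁ s₂ := by
      intro hsame
      obtain ⟨i, hi⟩ := hsame.exists_nat_pow_eq
      rcases c3_pow_cases a ha3 s₁ i with h | h | h
      · exact h21 (by rw [← hi, h])
      · exact h22 (by rw [← hi, h])
      · exact h23 (by rw [← hi, h])
    have hnd0 : [s₁, s₂].Nodup := by
      simp only [List.nodup_cons, List.mem_singleton, List.not_mem_nil, not_false_eq_true,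
        List.nodup_nil, and_true]
      exact fun h => h21 h.symm
    have hpair0 : ∀ s ∈ [s₁, s₂], ∀ s' ∈ [s₁, s₂], a.SameCycle s s' → s = s' := by
      intro s hs s' hs' hsame
      simp only [List.mem_cons, List.not_mem_nil, or_false] at hs hs'
      rcases hs with rfl | rfl <;> rcases hs' with rfl | rfl
      · rfl
      · exact absurd hsame hns
      · exact absurd hsame.symm hns
      · rfl
    obtain ⟨l₁, ⟨hnd, hpair, hcov⟩, hsum⟩ := hTLa Δ a [s₁, s₂] hnd0 hpair0
    have hp1 := c3_period_three a ha3 s₁ hs₁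
    have hp2 := c3_period_three a ha3 s₂ hs₂
    have h3d : ∀ m : ℕ, 9 ≤ m → m ≤ 12 → m = 3 ^ d → m = 9 := by
      intro m h1 h2 h3
      have hd2 : d ≤ 2 := by
        by_contra hc
        have : (3 : ℕ) ^ 3 ≤ 3 ^ d := Nat.pow_le_pow_right (by norm_num) (by omega)
        omega
      have hd2' : 2 ≤ d := by
        by_contra hc
        have : (3 : ℕ) ^ d ≤ 3 ^ 1 := Nat.pow_le_pow_right (by norm_num) (by omega)
        omega
      have : d = 2 := by omega
      rw [h3, this]; norm_num
    rcases l₁ with _ | ⟨x, _ | ⟨x', _ | ⟨x'', rest⟩⟩⟩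
    · exfalso
      simp only [List.append_nil, List.map_cons, List.map_nil, List.sum_cons, List.sum_nil,
        hp1, hp2] at hsum
      omega
    · -- three cycles: fixed-point-free on 9 points
      simp only [List.cons_append, List.nil_append, List.map_cons, List.map_nil, List.sum_cons,
        List.sum_nil, hp1, hp2] at hsum
      have hpx := c3_period_cases a ha3 x
      have hx3 : Function.minimalPeriod (a : Δ → Δ) x = 3 := by
        rcases hpx with h | h
        · rw [h] at hsum; omega
        · exact h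
      have hc9 : Fintype.card Δ = 9 := by omega
      apply hC Δ hc9 a b ha3 _ hb
      intro y hy
      obtain ⟨s, hs, hsy⟩ := hcov y
      have hsfix : a s = s := by
        obtain ⟨i, hi⟩ := hsy.exists_nat_pow_eq
        rw [← hi, ← Perm.mul_apply, ← pow_succ', pow_succ, Perm.mul_apply] at hy
        exact (a ^ i).injective hy
      have hs1 : Function.minimalPeriod (a : Δ → Δ) s = 1 :=
        Function.minimalPeriod_eq_one_iff_isFixedPt.mpr hsfix
      simp only [List.cons_append, List.nil_append, List.mem_cons, List.not_mem_nil,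
        or_false] at hs
      rcases hs with rfl | rfl | rfl <;> omega
    · exfalso
      simp only [List.cons_append, List.nil_append, List.map_cons, List.map_nil, List.sum_cons,
        List.sum_nil, hp1, hp2] at hsum
      have hpx := c3_period_cases a ha3 x
      have hpx' := c3_period_cases a ha3 x'
      have h12 : Fintype.card Δ ≤ 12 := by
        rcases hpx with h | h <;> rcases hpx' with h' | h' <;> omega
      have := h3d _ h9 h12 hcard
      rcases hpx with h | h <;> rcases hpx' with h' | h' <;> omega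
    · -- at least five cycles
      have hsub : List.Sublist [s₁, s₂, x, x', x''] ([s₁, s₂] ++ x :: x' :: x'' :: rest) := by
        simp
      have hmem : ∀ s ∈ [s₁, s₂, x, x', x''], s ∈ [s₁, s₂] ++ x :: x' :: x'' :: rest :=
        fun s hs => hsub.subset hs
      exact hB Δ d hcard a b s₁ s₂ x x' x'' ha3 hs₁ hs₂ (hnd.sublist hsub)
        (fun s hs s' hs' hsame => hpair s (hmem s hs) s' (hmem s' hs') hsame) hb

end Cfsg.Agent.Lib.Helper75.APair
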