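import Cfsg.Agent.Lib.Helper75.APair.Defs

/-!
# APAIR [FIN]: from `Good` to the statement in the alternating group
-/

set_option autoImplicit false

namespace Cfsg.Agent.Lib.Helper75.APair

open Equiv

theorem fin_of_PP (n p : ℕ) (u w : alternatingGroup (Fin n)) (g₀ : Perm (Fin n))
    (hs : Perm.sign g₀ = 1)
    (hP : PP p (u : Perm (Fin n)) (g₀ * (w : Perm (Fin n)) * g₀⁻¹)) :
    ∃ g : alternatingGroup (Fin n), (¬ ∃ k : ℕ, orderOf (u * (g * w * g⁻¹)) = p ^ k) ∧
      ¬ Group.IsSolvable ↥(Subgroup.closure ({u, g * w * g⁻¹} : Set (alternatingGroup (Fin n)))) := by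
  obtain ⟨h1, h2⟩ := hP
  refine ⟨⟨g₀, Equiv.Perm.mem_alternatingGroup.mpr hs⟩, ?_, ?_⟩
  · rintro ⟨k, hk⟩
    apply h1
    refine ⟨k, ?_⟩
    rw [← hk, ← Subgroup.orderOf_coe]
    rfl
  · intro hsol
    apply h2
    have hmap : (Subgroup.closure ({u, (⟨g₀, Equiv.Perm.mem_alternatingGroup.mpr hs⟩ :
        alternatingGroup (Fin n)) * w * (⟨g₀, Equiv.Perm.mem_alternatingGroup.mpr hs⟩ :
        alternatingGroup (Fin n))⁻¹} : Set (alternatingGroup (Fin n)))).map
        (alternatingGroup (Fin n)).subtype =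
        Subgroup.closure {(u : Perm (Fin n)), g₀ * (w : Perm (Fin n)) * g₀⁻¹} := by
      rw [MonoidHom.map_closure]
      congr 1
      ext x
      simp [Set.image_insert_eq]
    have hsol2 := Group.isSolvable_of_surjective
      ((alternatingGroup (Fin n)).subtype.subgroupMap_surjective
        (Subgroup.closure ({u, (⟨g₀, Equiv.Perm.mem_alternatingGroup.mpr hs⟩ :
        alternatingGroup (Fin n)) * w * (⟨g₀, Equiv.Perm.mem_alternatingGroup.mpr hs⟩ :
        alternatingGroup (Fin n))⁻¹} : Set (alternatingGroup (Fin n)))))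
    rw [hmap] at hsol2
    exact hsol2

theorem pkgFin : PkgFin := by
  intro n p u w ⟨g₁, g₂, hsign, hP1, hP2⟩
  rcases Int.units_eq_one_or (Perm.sign g₁) with e1 | e1
  · exact fin_of_PP n p u w g₁ e1 hP1
  · rcases Int.units_eq_one_or (Perm.sign g₂) with e2 | e2
    · exact fin_of_PP n p u w g₂ e2 hP2
    · exact absurd (e1.trans e2.symm) hsign

end Cfsg.Agent.Lib.Helper75.APair
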