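import Cfsg.Agent.Lib.Helper75.APair.TLb

/-!
# APAIR [INV]: invariant subsets of prescribed size
-/

set_option autoImplicit false

namespace Cfsg.Agent.Lib.Helper75.APair

open Equiv

/-- the orbit of `x₀` as a finset. -/
noncomputable def invOrb {Ω : Type} [DecidableEq Ω] (u : Perm Ω) (x₀ : Ω) : Finset Ω :=
  (Finset.range (Function.minimalPeriod (u : Ω → Ω) x₀)).image (fun k => (u ^ k) x₀)

theorem invOrb_pow_mem {Ω : Type} [Fintype Ω] [DecidableEq Ω] (u : Perm Ω) (x₀ : Ω) (j : ℕ) :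
    (u ^ j) x₀ ∈ invOrb u x₀ := by
  unfold invOrb
  rw [Finset.mem_image]
  exact ⟨j % Function.minimalPeriod (u : Ω → Ω) x₀,
    Finset.mem_range.mpr (Nat.mod_lt _ (tlb_period_pos u x₀)), tlb_pow_mod u x₀ j⟩

theorem invOrb_self_mem {Ω : Type} [Fintype Ω] [DecidableEq Ω] (u : Perm Ω) (x₀ : Ω) :
    x₀ ∈ invOrb u x₀ := by
  simpa using invOrb_pow_mem u x₀ 0

theorem invOrb_exists {Ω : Type} [DecidableEq Ω] (u : Perm Ω) (x₀ : Ω) (z : Ω)
    (hz : z ∈ invOrb u x₀) : ∃ k : ℕ, (u ^ k) x₀ = z := by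
  unfold invOrb at hz
  rw [Finset.mem_image] at hz
  obtain ⟨k, -, hk⟩ := hz
  exact ⟨k, hk⟩

theorem invOrb_inv {Ω : Type} [Fintype Ω] [DecidableEq Ω] (u : Perm Ω) (x₀ : Ω) (z : Ω)
    (hz : z ∈ invOrb u x₀) : u z ∈ invOrb u x₀ := by
  obtain ⟨k, rfl⟩ := invOrb_exists u x₀ z hz
  rw [← Perm.mul_apply, ← pow_succ']
  exact invOrb_pow_mem u x₀ (k + 1)

theorem invOrb_inv' {Ω : Type} [Fintype Ω] [DecidableEq Ω] (u : Perm Ω) (x₀ : Ω) (y : Ω)
    (hz : u y ∈ invOrb u x₀) : y ∈ invOrb u x₀ := by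
  obtain ⟨k, hk⟩ := invOrb_exists u x₀ _ hz
  have hpos := tlb_period_pos u x₀
  have h1 : (u ^ (k + Function.minimalPeriod (u : Ω → Ω) x₀)) x₀ = (u ^ k) x₀ := by
    rw [← tlb_pow_mod u x₀ (k + Function.minimalPeriod (u : Ω → Ω) x₀), Nat.add_mod_right,
      tlb_pow_mod]
  have h2 : y = (u ^ (k + Function.minimalPeriod (u : Ω → Ω) x₀ - 1)) x₀ := by
    apply u.injective
    rw [← hk, ← Perm.mul_apply, ← pow_succ']
    have : k + Function.minimalPeriod (u : Ω → Ω) x₀ - 1 + 1 =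
        k + Function.minimalPeriod (u : Ω → Ω) x₀ := by omega
    rw [this, h1]
  rw [h2]
  exact invOrb_pow_mem u x₀ _

theorem invOrb_card {Ω : Type} [Fintype Ω] [DecidableEq Ω] (u : Perm Ω) (x₀ : Ω) :
    (invOrb u x₀).card = Function.minimalPeriod (u : Ω → Ω) x₀ := by
  unfold invOrb
  rw [Finset.card_image_of_injOn, Finset.card_range]
  intro k hk k' hk' heq
  simp only [Finset.coe_range, Set.mem_Iio] at hk hk'
  simp only at heq
  by_contra hne
  rcases Nat.lt_or_gt_of_ne hne with h | h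
  · have h1 : (u ^ (k' - k)) x₀ = x₀ := by
      apply (u ^ k).injective
      rw [← Perm.mul_apply, ← pow_add]
      have : k + (k' - k) = k' := by omega
      rw [this, heq]
    exact tlb_lt_period u x₀ (k' - k) (by omega) (by omega) h1
  · have h1 : (u ^ (k - k')) x₀ = x₀ := by
      apply (u ^ k').injective
      rw [← Perm.mul_apply, ← pow_add]
      have : k' + (k - k') = k := by omega
      rw [this, heq]
    exact tlb_lt_period u x₀ (k - k') (by omega) (by omega) h1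

theorem inv_aux {Ω : Type} [Fintype Ω] [DecidableEq Ω] (p : ℕ) (hp : p.Prime) (u : Perm Ω)
    (hpow : ∀ x, ∃ k : ℕ, Function.minimalPeriod (u : Ω → Ω) x = p ^ k) :
    ∀ (m : ℕ) (Y : Finset Ω), Y.card = m → (∀ y ∈ Y, u y ∈ Y) → ∀ (N : ℕ) (x₀ : Ω), x₀ ∈ Y →
      (∀ x ∈ Y, Function.minimalPeriod (u : Ω → Ω) x ≤ Function.minimalPeriod (u : Ω → Ω) x₀) →
      (∀ x ∈ Y, Function.minimalPeriod (u : Ω → Ω) x ∣ N) → 0 < N → N ≤ Y.card →
      ∃ Z : Finset Ω, Z ⊆ Y ∧ x₀ ∈ Z ∧ (∀ z ∈ Z, u z ∈ Z) ∧ Z.card = N := by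
  intro m
  induction m using Nat.strong_induction_on with
  | _ m ih =>
    intro Y hYm hYinv N x₀ hx₀ hmax hdiv hN hNY
    have hOY : invOrb u x₀ ⊆ Y := by
      intro z hz
      obtain ⟨k, rfl⟩ := invOrb_exists u x₀ z hz
      have : ∀ j : ℕ, (u ^ j) x₀ ∈ Y := by
        intro j
        induction j with
        | zero => simpa using hx₀
        | succ j ihj => rw [pow_succ', Perm.mul_apply]; exact hYinv _ ihj
      exact this k
    have hMN : Function.minimalPeriod (u : Ω → Ω) x₀ ∣ N := hdiv x₀ hx₀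
    have hMpos := tlb_period_pos u x₀
    have hMle : Function.minimalPeriod (u : Ω → Ω) x₀ ≤ N := Nat.le_of_dvd hN hMN
    rcases Nat.eq_or_lt_of_le hMle with hEq | hLt
    · exact ⟨invOrb u x₀, hOY, invOrb_self_mem u x₀, invOrb_inv u x₀, by
        rw [invOrb_card, hEq]⟩
    · -- recurse on Y \ orbit
      have hY'inv : ∀ y ∈ Y \ invOrb u x₀, u y ∈ Y \ invOrb u x₀ := by
        intro y hy
        rw [Finset.mem_sdiff] at hy ⊢
        exact ⟨hYinv y hy.1, fun h => hy.2 (invOrb_inv' u x₀ y h)⟩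
      have hY'card : (Y \ invOrb u x₀).card = Y.card - Function.minimalPeriod (u : Ω → Ω) x₀ := by
        rw [Finset.card_sdiff_of_subset hOY, invOrb_card]
      have hN' : 0 < N - Function.minimalPeriod (u : Ω → Ω) x₀ := by omega
      have hN'Y : N - Function.minimalPeriod (u : Ω → Ω) x₀ ≤ (Y \ invOrb u x₀).card := by
        rw [hY'card]; omega
      have hne : (Y \ invOrb u x₀).Nonempty := by
        rw [← Finset.card_pos]; omega
      obtain ⟨x₁, hx₁, hx₁max⟩ := Finset.exists_max_image (Y \ invOrb u x₀)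
        (fun x => Function.minimalPeriod (u : Ω → Ω) x) hne
      have hdiv' : ∀ x ∈ Y \ invOrb u x₀, Function.minimalPeriod (u : Ω → Ω) x ∣
          N - Function.minimalPeriod (u : Ω → Ω) x₀ := by
        intro x hx
        have hxY : x ∈ Y := (Finset.mem_sdiff.mp hx).1
        apply Nat.dvd_sub (hdiv x hxY)
        obtain ⟨k, hk⟩ := hpow x
        obtain ⟨K, hK⟩ := hpow x₀
        have hle := hmax x hxY
        rw [hk, hK] at hle ⊢
        exact pow_dvd_pow p ((Nat.pow_le_pow_iff_right hp.one_lt).mp hle)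
      obtain ⟨Z', hZ'Y, hx₁Z', hZ'inv, hZ'card⟩ := ih (Y \ invOrb u x₀).card
        (by rw [hY'card]; omega) (Y \ invOrb u x₀) rfl hY'inv
        (N - Function.minimalPeriod (u : Ω → Ω) x₀) x₁ hx₁ hx₁max hdiv' hN' hN'Y
      have hdisj : Disjoint (invOrb u x₀) Z' := by
        rw [Finset.disjoint_left]
        intro z hz hz'
        exact (Finset.mem_sdiff.mp (hZ'Y hz')).2 hz
      refine ⟨invOrb u x₀ ∪ Z', ?_, ?_, ?_, ?_⟩
      · exact Finset.union_subset hOY (hZ'Y.trans Finset.sdiff_subset)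
      · exact Finset.mem_union_left _ (invOrb_self_mem u x₀)
      · intro z hz
        rcases Finset.mem_union.mp hz with h | h
        · exact Finset.mem_union_left _ (invOrb_inv u x₀ z h)
        · exact Finset.mem_union_right _ (hZ'inv z h)
      · rw [Finset.card_union_of_disjoint hdisj, invOrb_card, hZ'card]; omega

theorem pkgINV : PkgINV := by
  intro Ω _ _ p hp u hpow N x₀ hmax hdiv hN hNcard
  obtain ⟨Z, -, hx₀, hinv, hcard⟩ := inv_aux p hp u hpow (Finset.univ : Finset Ω).card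
    Finset.univ rfl (fun y _ => Finset.mem_univ _) N x₀ (Finset.mem_univ _)
    (fun x _ => hmax x) (fun x _ => hdiv x) hN (by simpa using hNcard)
  exact ⟨Z, hx₀, hinv, hcard⟩

end Cfsg.Agent.Lib.Helper75.APair
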