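import Cfsg.Agent.Lib.Helper75.APair.Defs

/-!
# APAIR [RL]: restriction lemma
-/

set_option autoImplicit false

namespace Cfsg.Agent.Lib.Helper75.APair

open Equiv

/-- extension of a partial bijection given by two embeddings. -/
theorem rl_extend {Ω Δ : Type} [Fintype Ω] [DecidableEq Ω] [Fintype Δ] [DecidableEq Δ]
    (ιu ιw : Δ ↪ Ω) (h : Perm Δ) : ∃ g : Perm Ω, ∀ x, g (ιw x) = ιu (h x) := by
  classical
  let e : {y // y ∈ Set.range ιw} ≃ {y // y ∈ Set.range ιu} :=
    (Equiv.ofInjective ιw ιw.injective).symm.trans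
      (h.trans (Equiv.ofInjective ιu ιu.injective))
  refine ⟨e.extendSubtype, fun x => ?_⟩
  rw [Equiv.extendSubtype_apply_of_mem e (ιw x) ⟨x, rfl⟩]
  have h1 : (Equiv.ofInjective ιw ιw.injective).symm ⟨ιw x, ⟨x, rfl⟩⟩ = x := by
    apply (Equiv.ofInjective ιw ιw.injective).injective
    rw [Equiv.apply_symm_apply]
    rfl
  show ((Equiv.ofInjective ιu ιu.injective) (h ((Equiv.ofInjective ιw ιw.injective).symm
    ⟨ιw x, ⟨x, rfl⟩⟩)) : Ω) = ιu (h x)
  rw [h1]
  rfl

/-- `PP` passes from the restriction to an invariant subset. -/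
theorem rl_restrict {Ω Δ : Type} [Fintype Ω] [DecidableEq Ω] [Fintype Δ] [DecidableEq Δ]
    (p : ℕ) (hp : p.Prime) (u w : Perm Ω) (a b : Perm Δ) (ι : Δ ↪ Ω)
    (hu : ∀ x, u (ι x) = ι (a x)) (hw : ∀ x, w (ι x) = ι (b x)) (h : PP p a b) : PP p u w := by
  obtain ⟨h1, h2⟩ := h
  constructor
  · rintro ⟨k, hk⟩
    apply h1
    have hpow : ∀ m : ℕ, ∀ x, ((u * w) ^ m) (ι x) = ι (((a * b) ^ m) x) := by
      intro m
      induction m with
      | zero => intro x; simp
      | succ m ih =>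
        intro x
        rw [pow_succ, Perm.mul_apply, Perm.mul_apply, hw, hu, ih, pow_succ, Perm.mul_apply,
          Perm.mul_apply]
    have h3 : (a * b) ^ (p ^ k) = 1 := by
      ext x
      apply ι.injective
      rw [← hpow, ← hk, pow_orderOf_eq_one]
      rfl
    obtain ⟨j, -, hj⟩ := (Nat.dvd_prime_pow hp).mp (orderOf_dvd_of_pow_eq_one h3)
    exact ⟨j, hj⟩
  · intro hsol
    apply h2
    -- the diagonal subgroup
    let T : Subgroup (Perm Ω × Perm Δ) := Subgroup.closure {(u, a), (w, b)}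
    have hT : ∀ t ∈ T, ∀ x, t.1 (ι x) = ι (t.2 x) := by
      intro t ht
      induction ht using Subgroup.closure_induction with
      | mem t ht =>
        rcases ht with rfl | rfl
        · exact hu
        · exact hw
      | one => intro x; rfl
      | mul s t _ _ hs ht =>
        intro x
        show s.1 (t.1 (ι x)) = ι (s.2 (t.2 x))
        rw [ht, hs]
      | inv t _ ht =>
        intro x
        show t.1⁻¹ (ι x) = ι (t.2⁻¹ x)
        rw [Perm.inv_eq_iff_eq, ht]
        simp
    have hmap1 : T.map (MonoidHom.fst (Perm Ω) (Perm Δ)) = Subgroup.closure {u, w} := by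
      rw [MonoidHom.map_closure]
      congr 1
      ext g
      simp [Set.image_insert_eq]
    have hmap2 : T.map (MonoidHom.snd (Perm Ω) (Perm Δ)) = Subgroup.closure {a, b} := by
      rw [MonoidHom.map_closure]
      congr 1
      ext g
      simp [Set.image_insert_eq]
    have hsol1 : Group.IsSolvable (T.map (MonoidHom.fst (Perm Ω) (Perm Δ))) := by
      rw [hmap1]; exact hsol
    have hinj : Function.Injective ((MonoidHom.fst (Perm Ω) (Perm Δ)).subgroupMap T) := by
      rw [injective_iff_map_eq_one]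
      rintro ⟨t, ht⟩ h1
      have h1' : t.1 = 1 := by
        have := congrArg Subtype.val h1
        simpa using this
      apply Subtype.ext
      apply Prod.ext
      · exact h1'
      · ext x
        apply ι.injective
        rw [← hT t ht x, h1']
        rfl
    have hsolT : Group.IsSolvable T := Group.isSolvable_of_isSolvable_injective hinj
    have hsol2 : Group.IsSolvable (T.map (MonoidHom.snd (Perm Ω) (Perm Δ))) :=
      Group.isSolvable_of_surjective
        ((MonoidHom.snd (Perm Ω) (Perm Δ)).subgroupMap_surjective T)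
    rw [hmap2] at hsol2
    exact hsol2

theorem pkgRL : PkgRL := by
  intro Ω Δ _ _ _ _ p hp u w a b ιu ιw hu hw ⟨h₁, h₂, hsign, hP1, hP2⟩
  classical
  obtain ⟨g₁, hg₁⟩ := rl_extend ιu ιw h₁
  let g₂ : Perm Ω := (h₂ * h₁⁻¹).extendDomain (Equiv.ofInjective ιu ιu.injective) * g₁
  have hg₂ : ∀ x, g₂ (ιw x) = ιu (h₂ x) := by
    intro x
    show (h₂ * h₁⁻¹).extendDomain (Equiv.ofInjective ιu ιu.injective) (g₁ (ιw x)) = ιu (h₂ x)
    rw [hg₁]
    have := Equiv.Perm.extendDomain_apply_image (h₂ * h₁⁻¹)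
      (Equiv.ofInjective ιu ιu.injective) (h₁ x)
    simpa using this
  have key : ∀ (g : Perm Ω) (h : Perm Δ), (∀ x, g (ιw x) = ιu (h x)) →
      PP p a (h * b * h⁻¹) → PP p u (g * w * g⁻¹) := by
    intro g h hg hP
    apply rl_restrict p hp u (g * w * g⁻¹) a (h * b * h⁻¹) ιu hu _ hP
    intro x
    have h1 : g⁻¹ (ιu x) = ιw (h⁻¹ x) := by
      rw [Perm.inv_eq_iff_eq, hg]; simp
    show g (w (g⁻¹ (ιu x))) = ιu (h (b (h⁻¹ x)))
    rw [h1, hw, hg]
  refine ⟨g₁, g₂, ?_, key g₁ h₁ hg₁ hP1, key g₂ h₂ hg₂ hP2⟩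
  have hs2 : Perm.sign g₂ = Perm.sign h₂ * Perm.sign h₁ * Perm.sign g₁ := by
    show Perm.sign ((h₂ * h₁⁻¹).extendDomain (Equiv.ofInjective ιu ιu.injective) * g₁) = _
    rw [Perm.sign_mul, Equiv.Perm.sign_extendDomain, Perm.sign_mul, Perm.sign_inv]
  rw [hs2]
  rcases Int.units_eq_one_or (Perm.sign h₁) with e1 | e1 <;>
    rcases Int.units_eq_one_or (Perm.sign h₂) with e2 | e2 <;>
    rcases Int.units_eq_one_or (Perm.sign g₁) with e3 | e3 <;>
    simp_all

end Cfsg.Agent.Lib.Helper75.APair
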