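import Cfsg.Agent.Lib.Helper75.APair.Defs

/-!
# APAIR [TLb]: threading
-/

set_option autoImplicit false

namespace Cfsg.Agent.Lib.Helper75.APair

open Equiv

theorem tlb_period_pos {Δ : Type} [Fintype Δ] (a : Perm Δ) (s : Δ) :
    0 < Function.minimalPeriod (a : Δ → Δ) s := by
  apply Function.minimalPeriod_pos_of_mem_periodicPts
  apply Function.mk_mem_periodicPts (orderOf_pos a)
  show (⇑a)^[orderOf a] s = s
  rw [Equiv.Perm.iterate_eq_pow, pow_orderOf_eq_one]; rfl

theorem tlb_pow_mod {Δ : Type} (a : Perm Δ) (s : Δ) (n : ℕ) :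
    (a ^ (n % Function.minimalPeriod (a : Δ → Δ) s)) s = (a ^ n) s := by
  have h := Function.iterate_mod_minimalPeriod_eq (f := (a : Δ → Δ)) (x := s) (n := n)
  rw [Equiv.Perm.iterate_eq_pow, Equiv.Perm.iterate_eq_pow] at h
  exact h

theorem tlb_lt_period {Δ : Type} (a : Perm Δ) (s : Δ) (k : ℕ) (hk0 : 0 < k)
    (hk : k < Function.minimalPeriod (a : Δ → Δ) s) : (a ^ k) s ≠ s := by
  intro h
  have h1 : Function.IsPeriodicPt (a : Δ → Δ) k s := by
    show (⇑a)^[k] s = s
    rw [Equiv.Perm.iterate_eq_pow]; exact h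
  have := Function.IsPeriodicPt.minimalPeriod_le hk0 h1
  omega

theorem pkgTLb : PkgTLb := by
  intro Δ _ _ a l ⟨hnd, hpair, hcov⟩
  have hcinv : ∀ x, x ∉ l → (l.formPerm)⁻¹ x = x := by
    intro x hx
    rw [Equiv.Perm.inv_eq_iff_eq]
    exact (List.formPerm_apply_of_notMem hx).symm
  -- Step 1
  have step1 : ∀ s ∈ l, ∀ k : ℕ, k < Function.minimalPeriod (a : Δ → Δ) s →
      (((l.formPerm)⁻¹ * a) ^ k) s = (a ^ k) s := by
    intro s hs k
    induction k with
    | zero => intro _; simp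
    | succ k ih =>
      intro hk
      rw [pow_succ', Perm.mul_apply, ih (by omega)]
      rw [Perm.mul_apply, ← Perm.mul_apply a, ← pow_succ']
      apply hcinv
      intro hmem
      have hsame : a.SameCycle s ((a ^ (k + 1)) s) := ⟨((k + 1 : ℕ) : ℤ), by rw [zpow_natCast]⟩
      have heq := hpair s hs _ hmem hsame
      exact tlb_lt_period a s (k + 1) (by omega) hk heq.symm
  -- Step 2
  have step2 : ∀ x, ∃ s ∈ l, ((l.formPerm)⁻¹ * a).SameCycle s x := by
    intro x
    obtain ⟨s, hs, hsx⟩ := hcov x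
    obtain ⟨i, hi⟩ := hsx.exists_nat_pow_eq
    refine ⟨s, hs, ?_⟩
    have hpos := tlb_period_pos a s
    have hlt : i % Function.minimalPeriod (a : Δ → Δ) s < Function.minimalPeriod (a : Δ → Δ) s :=
      Nat.mod_lt _ hpos
    have h1 := step1 s hs _ hlt
    rw [tlb_pow_mod, hi] at h1
    exact ⟨((i % Function.minimalPeriod (a : Δ → Δ) s : ℕ) : ℤ), by rw [zpow_natCast]; exact h1⟩
  -- Step 3a: s ~ c⁻¹ s
  have step3a : ∀ s ∈ l, ((l.formPerm)⁻¹ * a).SameCycle s ((l.formPerm)⁻¹ s) := by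
    intro s hs
    have hpos := tlb_period_pos a s
    obtain ⟨m, hm⟩ : ∃ m, Function.minimalPeriod (a : Δ → Δ) s = m + 1 :=
      ⟨Function.minimalPeriod (a : Δ → Δ) s - 1, by omega⟩
    have h1 := step1 s hs m (by omega)
    have h2 : (((l.formPerm)⁻¹ * a) ^ (m + 1)) s = (l.formPerm)⁻¹ s := by
      rw [pow_succ', Perm.mul_apply, h1, Perm.mul_apply, ← Perm.mul_apply a, ← pow_succ']
      congr 1
      have h3 := tlb_pow_mod a s (m + 1)
      rw [hm, Nat.mod_self] at h3
      simpa using h3.symm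
    exact ⟨((m + 1 : ℕ) : ℤ), by rw [zpow_natCast]; exact h2⟩
  -- Step 3b: t ~ c t for t ∈ l
  have step3b : ∀ t ∈ l, ((l.formPerm)⁻¹ * a).SameCycle t (l.formPerm t) := by
    intro t ht
    have h := step3a (l.formPerm t) (List.formPerm_apply_mem_of_mem ht)
    have h' : (l.formPerm)⁻¹ (l.formPerm t) = t := by simp
    rw [h'] at h
    exact h.symm
  have step3c : ∀ (n : ℕ), ∀ t ∈ l, ((l.formPerm)⁻¹ * a).SameCycle t ((l.formPerm ^ n) t) ∧
      (l.formPerm ^ n) t ∈ l := by
    intro n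
    induction n with
    | zero => intro t ht; exact ⟨by simpa using Equiv.Perm.SameCycle.refl _ t, by simpa using ht⟩
    | succ n ih =>
      intro t ht
      obtain ⟨h1, h2⟩ := ih t ht
      rw [pow_succ', Perm.mul_apply]
      exact ⟨h1.trans (step3b _ h2), List.formPerm_apply_mem_of_mem h2⟩
  -- Step 3: any two reps
  have step3 : ∀ s ∈ l, ∀ s' ∈ l, ((l.formPerm)⁻¹ * a).SameCycle s s' := by
    intro s hs s' hs'
    obtain ⟨i, hi, rfl⟩ := List.getElem_of_mem hs
    obtain ⟨j, hj, rfl⟩ := List.getElem_of_mem hs'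
    have h := (step3c (j + (l.length - i)) l[i] hs).1
    rw [List.formPerm_pow_apply_getElem l hnd _ i hi] at h
    have hidx : (i + (j + (l.length - i))) % l.length = j := by
      have : i + (j + (l.length - i)) = j + l.length := by omega
      rw [this, Nat.add_mod_right, Nat.mod_eq_of_lt hj]
    simpa only [hidx] using h
  intro x y
  obtain ⟨s, hs, hsx⟩ := step2 x
  obtain ⟨s', hs', hsy⟩ := step2 y
  exact hsx.symm.trans ((step3 s hs s' hs').trans hsy)

end Cfsg.Agent.Lib.Helper75.APair
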