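import Cfsg.Agent.Lib.Helper75.APair.Defs

/-!
# APAIR (S2276): assembly of the packages
-/

set_option autoImplicit false

namespace Cfsg.Agent.Lib.Helper75.APair

open Equiv

theorem top_period_pow {Ω : Type} [Fintype Ω] [DecidableEq Ω] (p : ℕ) (hp : p.Prime)
    (U : Perm Ω) (hU : ∃ k : ℕ, orderOf U = p ^ k) (x : Ω) :
    ∃ k : ℕ, Function.minimalPeriod (U : Ω → Ω) x = p ^ k := by
  obtain ⟨k, hk⟩ := hU
  have h1 : Function.minimalPeriod (U : Ω → Ω) x ∣ p ^ k := by
    apply Function.IsPeriodicPt.minimalPeriod_dvd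
    rw [← hk]
    show (⇑U)^[orderOf U] x = x
    rw [Equiv.Perm.iterate_eq_pow, pow_orderOf_eq_one]; rfl
  obtain ⟨j, -, hj⟩ := (Nat.dvd_prime_pow hp).mp h1
  exact ⟨j, hj⟩

theorem top_pow_eq_one {Ω : Type} (U : Perm Ω) (m : ℕ)
    (h : ∀ x, Function.minimalPeriod (U : Ω → Ω) x ∣ m) : U ^ m = 1 := by
  ext x
  have h1 : Function.IsPeriodicPt (U : Ω → Ω) m x :=
    Function.isPeriodicPt_iff_minimalPeriod_dvd.mpr (h x)
  have h2 : (⇑U)^[m] x = x := h1
  rw [Equiv.Perm.iterate_eq_pow] at h2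
  simpa using h2

theorem top_period_ne_one {Ω : Type} (U : Perm Ω) (x : Ω) (h : U x ≠ x) :
    Function.minimalPeriod (U : Ω → Ω) x ≠ 1 := by
  intro h1
  exact h (Function.minimalPeriod_eq_one_iff_isFixedPt.mp h1)

/-- the reduction when the maximal period of `U` is at most that of `W`. -/
theorem top_good_of_le (hRot : PkgRot) (hRL : PkgRL) (hINV : PkgINV) (hRedA : PkgRedA)
    (hRedB : PkgRedB) (hRedC : PkgRedC) (hEQ : PkgEQ) (hC1 : PkgC1) (hC3 : PkgC3) (hS3 : PkgS3)
    (n : ℕ) (hn : 5 ≤ n) (p : ℕ) (hp : p.Prime) (hp3 : 3 ≤ p) (U W : Perm (Fin n))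
    (hU1 : U ≠ 1) (hU : ∃ k : ℕ, orderOf U = p ^ k) (hW : ∃ k : ℕ, orderOf W = p ^ k)
    (x₀ y₀ : Fin n)
    (hx₀ : ∀ x, Function.minimalPeriod (U : Fin n → Fin n) x ≤
      Function.minimalPeriod (U : Fin n → Fin n) x₀)
    (hy₀ : ∀ y, Function.minimalPeriod (W : Fin n → Fin n) y ≤
      Function.minimalPeriod (W : Fin n → Fin n) y₀)
    (hle : Function.minimalPeriod (U : Fin n → Fin n) x₀ ≤
      Function.minimalPeriod (W : Fin n → Fin n) y₀) : Good p U W := by
  obtain ⟨ju, hju⟩ := top_period_pow p hp U hU x₀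
  obtain ⟨d, hd⟩ := top_period_pow p hp W hW y₀
  have hp1 : 1 < p := hp.one_lt
  -- the maximal period of `U` is not 1
  have hMu1 : Function.minimalPeriod (U : Fin n → Fin n) x₀ ≠ 1 := by
    intro h1
    apply hU1
    ext x
    have hx := hx₀ x
    rw [h1] at hx
    obtain ⟨k, hk⟩ := top_period_pow p hp U hU x
    have hpos : 0 < Function.minimalPeriod (U : Fin n → Fin n) x := by
      rw [hk]; exact pow_pos hp.pos k
    have h2 : Function.minimalPeriod (U : Fin n → Fin n) x = 1 := by omega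
    have h3 := Function.minimalPeriod_eq_one_iff_isFixedPt.mp h2
    simpa using congrArg Fin.val h3
  have hju1 : ju ≠ 0 := by
    intro h0; rw [h0, pow_zero] at hju; exact hMu1 hju
  have hMup : p ≤ Function.minimalPeriod (U : Fin n → Fin n) x₀ := by
    rw [hju]; exact Nat.le_self_pow hju1 p
  by_cases hq5 : Function.minimalPeriod (W : Fin n → Fin n) y₀ < 5
  · -- all periods are 1 or 3, p = 3
    have hd1 : d ≠ 0 := by
      intro h0; rw [h0, pow_zero] at hd; omega
    have hpq : p ≤ Function.minimalPeriod (W : Fin n → Fin n) y₀ := by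
      rw [hd]; exact Nat.le_self_pow hd1 p
    have hp34 : p = 3 ∨ p = 4 := by omega
    have hp_eq : p = 3 := by
      rcases hp34 with h | h
      · exact h
      · exfalso; rw [h] at hp; exact absurd hp (by decide)
    subst hp_eq
    have hq3 : Function.minimalPeriod (W : Fin n → Fin n) y₀ = 3 := by
      have h4 : (3 : ℕ) ^ d < 5 := by rw [← hd]; exact hq5
      have hdle : d ≤ 1 := by
        by_contra hc
        have : (3 : ℕ) ^ 2 ≤ 3 ^ d := Nat.pow_le_pow_right (by norm_num) (by omega)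
        omega
      have : d = 1 := by omega
      rw [hd, this]; norm_num
    have hdvd : ∀ (V : Perm (Fin n)), (∃ k : ℕ, orderOf V = 3 ^ k) →
        (∀ x, Function.minimalPeriod (V : Fin n → Fin n) x ≤ 3) →
        ∀ x, Function.minimalPeriod (V : Fin n → Fin n) x ∣ 3 := by
      intro V hV hle3 x
      obtain ⟨k, hk⟩ := top_period_pow 3 hp V hV x
      have hx := hle3 x
      rw [hk] at hx ⊢
      have hk1 : k ≤ 1 := by
        by_contra hc
        have : (3 : ℕ) ^ 2 ≤ 3 ^ k := Nat.pow_le_pow_right (by norm_num) (by omega)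
        omega
      exact pow_dvd_pow 3 hk1 |>.trans (by norm_num)
    have hW3 : W ^ 3 = 1 := top_pow_eq_one W 3 (hdvd W hW fun y => by
      have := hy₀ y; omega)
    have hU3 : U ^ 3 = 1 := top_pow_eq_one U 3 (hdvd U hU fun x => by
      have := hx₀ x; omega)
    have hW1 : W ≠ 1 := by
      intro h
      rw [h] at hq3
      have : Function.minimalPeriod ((1 : Perm (Fin n)) : Fin n → Fin n) y₀ = 1 :=
        Function.minimalPeriod_eq_one_iff_isFixedPt.mpr rfl
      omega
    exact hS3 (Fin n) (by simpa using hn) U W hU3 hW3 hU1 hW1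
  · push Not at hq5
    obtain ⟨ιw, hιw⟩ := hRedB (Fin n) W y₀ _ rfl
    have hqn : Function.minimalPeriod (W : Fin n → Fin n) y₀ ≤ n := by
      simpa using Fintype.card_le_of_injective ιw ιw.injective
    have hdiv : ∀ x, Function.minimalPeriod (U : Fin n → Fin n) x ∣
        Function.minimalPeriod (W : Fin n → Fin n) y₀ := by
      intro x
      obtain ⟨k, hk⟩ := top_period_pow p hp U hU x
      have h1 : p ^ k ≤ p ^ d := by
        rw [← hk, ← hd]; exact (hx₀ x).trans hle
      rw [hk, hd]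
      exact pow_dvd_pow p ((Nat.pow_le_pow_iff_right hp1).mp h1)
    obtain ⟨Z, hxZ, hZinv, hZcard⟩ := hINV (Fin n) p hp U (top_period_pow p hp U hU)
      (Function.minimalPeriod (W : Fin n → Fin n) y₀) x₀ hx₀ hdiv (by omega)
      (by simpa using hqn)
    obtain ⟨ιu, a, hιu, hsurj⟩ := hRedA (Fin n) U Z _ hZcard hZinv
    obtain ⟨k₀, hk₀⟩ := hsurj x₀ hxZ
    obtain ⟨hper, hpow⟩ := hRedC (Fin n) _ U a ιu hιu
    have hperk₀ : Function.minimalPeriod (a : _ → _) k₀ =
        Function.minimalPeriod (U : Fin n → Fin n) x₀ := by rw [hper, hk₀]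
    have ha_ord : ∃ k : ℕ, orderOf a = p ^ k := by
      obtain ⟨k, hk⟩ := hU
      have h1 : a ^ (p ^ k) = 1 := hpow _ (by rw [← hk]; exact pow_orderOf_eq_one U)
      obtain ⟨j, -, hj⟩ := (Nat.dvd_prime_pow hp).mp (orderOf_dvd_of_pow_eq_one h1)
      exact ⟨j, hj⟩
    have hcard : Fintype.card (Fin (Function.minimalPeriod (W : Fin n → Fin n) y₀)) = p ^ d := by
      rw [Fintype.card_fin]; exact hd
    have hb : Full (finRotate (Function.minimalPeriod (W : Fin n → Fin n) y₀)) := hRot _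
    have hgood : Good p a (finRotate (Function.minimalPeriod (W : Fin n → Fin n) y₀)) := by
      by_cases hfull : Full a
      · exact hEQ _ p d hp hp3 hcard (by rw [Fintype.card_fin]; exact hq5) a _ hfull hb
      · by_cases h5 : 5 ≤ Function.minimalPeriod (U : Fin n → Fin n) x₀
        · exact hC1 _ p d hp hp3 hcard a _ ha_ord ⟨k₀, by rw [hperk₀]; exact h5⟩ hfull hb
        · have hp34 : p = 3 ∨ p = 4 := by omega
          have hp_eq : p = 3 := by
            rcases hp34 with h | h
            · exact h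
            · exfalso; rw [h] at hp; exact absurd hp (by decide)
          subst hp_eq
          have hMu3 : Function.minimalPeriod (U : Fin n → Fin n) x₀ = 3 := by
            have h4 : (3 : ℕ) ^ ju < 5 := by rw [← hju]; omega
            have hjle : ju ≤ 1 := by
              by_contra hc
              have : (3 : ℕ) ^ 2 ≤ 3 ^ ju := Nat.pow_le_pow_right (by norm_num) (by omega)
              omega
            have : ju = 1 := by omega
            rw [hju, this]; norm_num
          have hU3 : U ^ 3 = 1 := top_pow_eq_one U 3 (fun x => by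
            obtain ⟨k, hk⟩ := top_period_pow 3 hp U hU x
            have hx := hx₀ x
            rw [hk, hMu3] at hx
            rw [hk]
            have hk1 : k ≤ 1 := by
              by_contra hc
              have : (3 : ℕ) ^ 2 ≤ 3 ^ k := Nat.pow_le_pow_right (by norm_num) (by omega)
              omega
            exact pow_dvd_pow 3 hk1 |>.trans (by norm_num))
          have ha3 : a ^ 3 = 1 := hpow 3 hU3
          have ha1 : a ≠ 1 := by
            intro h
            have h1 : Function.minimalPeriod (a : _ → _) k₀ = 1 :=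
              Function.minimalPeriod_eq_one_iff_isFixedPt.mpr (by rw [h]; rfl)
            omega
          have h9 : 9 ≤ Fintype.card (Fin (Function.minimalPeriod (W : Fin n → Fin n) y₀)) := by
            rw [hcard]
            have hd2 : 2 ≤ d := by
              by_contra hc
              have hd1 : d ≤ 1 := by omega
              have : (3 : ℕ) ^ d ≤ 3 ^ 1 := Nat.pow_le_pow_right (by norm_num) hd1
              rw [hd] at hq5
              omega
            calc 9 = 3 ^ 2 := by norm_num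
              _ ≤ 3 ^ d := Nat.pow_le_pow_right (by norm_num) hd2
          exact hC3 _ d hcard h9 a _ ha3 ha1 hb
    exact hRL (Fin n) _ p hp U W a _ ιu ιw hιu hιw hgood

theorem top_good (hSymm : PkgSymm) (hRot : PkgRot) (hRL : PkgRL) (hINV : PkgINV)
    (hRedA : PkgRedA) (hRedB : PkgRedB) (hRedC : PkgRedC) (hEQ : PkgEQ) (hC1 : PkgC1)
    (hC3 : PkgC3) (hS3 : PkgS3)
    (n : ℕ) (hn : 5 ≤ n) (p : ℕ) (hp : p.Prime) (hp3 : 3 ≤ p) (U W : Perm (Fin n))
    (hU1 : U ≠ 1) (hW1 : W ≠ 1) (hU : ∃ k : ℕ, orderOf U = p ^ k)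
    (hW : ∃ k : ℕ, orderOf W = p ^ k) : Good p U W := by
  have : Nonempty (Fin n) := ⟨⟨0, by omega⟩⟩
  obtain ⟨x₀, hx₀⟩ := Finite.exists_max (fun x => Function.minimalPeriod (U : Fin n → Fin n) x)
  obtain ⟨y₀, hy₀⟩ := Finite.exists_max (fun y => Function.minimalPeriod (W : Fin n → Fin n) y)
  rcases le_total (Function.minimalPeriod (U : Fin n → Fin n) x₀)
      (Function.minimalPeriod (W : Fin n → Fin n) y₀) with h | h
  · exact top_good_of_le hRot hRL hINV hRedA hRedB hRedC hEQ hC1 hC3 hS3 n hn p hp hp3 U W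
      hU1 hU hW x₀ y₀ hx₀ hy₀ h
  · exact hSymm (Fin n) p U W
      (top_good_of_le hRot hRL hINV hRedA hRedB hRedC hEQ hC1 hC3 hS3 n hn p hp hp3 W U
        hW1 hW hU y₀ x₀ hy₀ hx₀ h)

/-- S2276 from the packages. -/
theorem top_result (hSymm : PkgSymm) (hRot : PkgRot) (hRL : PkgRL) (hINV : PkgINV)
    (hRedA : PkgRedA) (hRedB : PkgRedB) (hRedC : PkgRedC) (hFin : PkgFin) (hEQ : PkgEQ)
    (hC1 : PkgC1) (hC3 : PkgC3) (hS3 : PkgS3)
    (n : ℕ) (hn : 5 ≤ n) (p : ℕ) (hp : p.Prime) (hp3 : 3 ≤ p)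
    (u w : alternatingGroup (Fin n)) (hu : u ≠ 1) (hw : w ≠ 1)
    (hu' : ∃ k : ℕ, orderOf u = p ^ k) (hw' : ∃ k : ℕ, orderOf w = p ^ k) :
    ∃ g : alternatingGroup (Fin n), (¬ ∃ k : ℕ, orderOf (u * (g * w * g⁻¹)) = p ^ k) ∧
      ¬ Group.IsSolvable ↥(Subgroup.closure ({u, g * w * g⁻¹} : Set (alternatingGroup (Fin n)))) := by
  apply hFin n p u w
  apply top_good hSymm hRot hRL hINV hRedA hRedB hRedC hEQ hC1 hC3 hS3 n hn p hp hp3
  · intro h; exact hu (Subtype.ext h)
  · intro h; exact hw (Subtype.ext h)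
  · obtain ⟨k, hk⟩ := hu'; exact ⟨k, by rw [← hk, Subgroup.orderOf_coe]⟩
  · obtain ⟨k, hk⟩ := hw'; exact ⟨k, by rw [← hk, Subgroup.orderOf_coe]⟩

end Cfsg.Agent.Lib.Helper75.APair
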